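import Cfsg.Agent.Lib.Twisted.Out

/-!
# S3327: restriction of a twist to a Levi subsystem.
-/

set_option autoImplicit false
set_option linter.unusedSectionVars false

namespace Cfsg.Lib.EX

open Subgroup Cfsg.Lib.Chev Cfsg.Lib.Twisted Cfsg.Lib.St BN Equiv

variable {ι Φ : Type} [Fintype ι] [DecidableEq ι] [Fintype Φ] {R : RootSys ι Φ} {κ : Type} (T : Sym R κ) {F G : Type*} [Field F] [Group G] {C : ChevSys R F G}
  (A : Set κ) (J : Set ι) [DecidablePred (· ∈ J)] [Fintype {r // R.InJ J r}] (hJ : ∀ i, i ∈ J ↔ T.orb i ∈ A)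

include hJ in
theorem π_J (i : ι) : T.π i ∈ J ↔ i ∈ J := by rw [hJ, hJ, T.orb_π]
include hJ in
theorem ρ_J (r : Φ) : R.InJ J (T.ρ r) ↔ R.InJ J r := by
  by_cases h : R.IsPos r
  · simpa [posJ, h, T.isPos_ρ] using T.ρ_mem_posJ (π_J T A J hJ) (r := r)
  · simpa [negJ, h, T.isPos_ρ] using T.ρ_mem_negJ (π_J T A J hJ) (r := r)

/-- The restricted symmetry. -/
def symS : Sym (R.sub J) A where
  π := T.π.subtypePerm (π_J T A J hJ)
  ρ := T.ρ.subtypePerm (ρ_J T A J hJ)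
  orb i := ⟨T.orb i, (hJ i).1 i.2⟩
  ρ_simple i := Subtype.ext (T.ρ_simple i)
  ρ_sref i r := Subtype.ext ((congrArg T.ρ (RootSys.sub_sref i r)).trans ((T.ρ_sref _ _).trans (RootSys.sub_sref (R := R) ⟨T.π i, (π_J T A J hJ i).2 i.2⟩ ⟨T.ρ r, (ρ_J T A J hJ r).2 r.2⟩).symm))
  orb_π i := Subtype.ext (T.orb_π i)
  orb_surj k := let ⟨i, e⟩ := T.orb_surj k; ⟨⟨i, (hJ i).2 (e ▸ k.2)⟩, Subtype.ext e⟩
  same i j h := (T.same i j (congrArg Subtype.val h)).imp fun n e => Subtype.ext (by rw [Perm.subtypePerm_pow]; exact e)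

theorem inJ_S (k : A) (r : {r // R.InJ J r}) : (R.sub J).InJ ((symS T A J hJ).J k) r ↔ R.InJ (T.J k) r :=
  ⟨fun h i hi => if e : i ∈ J then h ⟨i, e⟩ fun c => hi (congrArg Subtype.val c) else r.2 i e, fun h i hi => h i fun c => hi (Subtype.ext c)⟩

include hJ in
theorem inJ_le (k : A) {r : Φ} (h : R.InJ (T.J k) r) : R.InJ J r := fun i hi => h i fun c => hi ((hJ i).2 (T.mem_J.1 c ▸ k.2))

theorem s_S (k : A) (r : {r // R.InJ J r}) : ((symS T A J hJ).s k r : Φ) = T.s k r := by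
  obtain ⟨l, h1, h2⟩ := exists_wp_of_mem_WJ (wJ_mem (R := R.sub J) ((symS T A J hJ).J k))
  have e : ∀ r, ((symS T A J hJ).s k r : Φ) = wp R.sref (l.map Subtype.val) r := fun r => by rw [← RootSys.sub_wp, h2]; rfl
  rw [e, eq_wJ (J := T.J k) (w := wp R.sref (l.map Subtype.val)) ?_ fun i hi => ?_]
  · rfl
  · clear h2 e
    induction l with
    | nil => exact one_mem _
    | cons i l ih => exact mul_mem (sref_mem_WJ (congrArg Subtype.val (h1 i (by simp)))) (ih fun j hj => h1 j (by simp [hj]))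
  · have hi' : i ∈ J := (hJ i).2 (T.mem_J.1 hi ▸ k.2)
    have := wJ_simple (R := R.sub J) (J := (symS T A J hJ).J k) (i := ⟨i, hi'⟩) (Subtype.ext hi)
    rwa [RootSys.sub_isPos, show (wJ (R.sub J) ((symS T A J hJ).J k) _ : Φ) = _ from e _] at this

variable (C) in
/-- The Levi subsystem in its own group. -/
abbrev sysS : ChevSys (R.sub J) F (C.sub J).grp := (C.sub J).resTo _ le_rfl

variable {T} (S : Twist C T)

include hJ in
theorem σ_J {g : G} (h : g ∈ (C.sub J).grp) : S.σ g ∈ (C.sub J).grp := by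
  rw [ChevSys.sub_toPreSys, PreSys.sub_grp] at h ⊢
  exact S.σ_mem_XS (fun r hr => (ρ_J T A J hJ r).2 hr) h

/-- The restricted twist. -/
def twS : Twist (sysS C J) (symS T A J hJ) where
  σ := (S.σ.comp (C.sub J).grp.subtype).codRestrict _ fun g => σ_J A J hJ S g.2
  θ i := S.θ i
  σ_pos i t := Subtype.ext (S.σ_pos i t)
  σ_neg i t := Subtype.ext (S.σ_neg i t)

theorem fix_S {g : (C.sub J).grp} : g ∈ (twS A J hJ S).Fix ↔ (g : G) ∈ S.Fix := Subtype.ext_iff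

theorem XS_S (p : Φ → Prop) {g : (C.sub J).grp} : g ∈ (sysS C J).XS {r | p r} ↔ (g : G) ∈ C.XS {r | p r ∧ R.InJ J r} := by
  rw [ChevSys.resTo_XS, mem_subgroupOf, ← PreSys.sub_XS]; rfl

theorem X_S (k : A) {g : (C.sub J).grp} : g ∈ (twS A J hJ S).X k ↔ (g : G) ∈ S.X k := by
  refine and_congr ?_ (fix_S A J hJ S)
  have := XS_S (C := C) J (· ∈ posJ R (T.J k)) (g := g)
  rw [show {r | r ∈ posJ R (T.J k) ∧ R.InJ J r} = posJ R (T.J k) from Set.ext fun r => and_iff_left_of_imp fun h => inJ_le T A J hJ k h.2] at this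
  rw [show posJ (R.sub J) ((symS T A J hJ).J k) = {r | r.1 ∈ posJ R (T.J k)} from Set.ext fun r => and_congr RootSys.sub_isPos (inJ_S T A J hJ k r)]
  exact this

theorem negS (k : A) {g : (C.sub J).grp} : g ∈ (sysS C J).XS (negJ (R.sub J) ((symS T A J hJ).J k)) ↔ (g : G) ∈ C.XS (negJ R (T.J k)) := by
  have := XS_S (C := C) J (· ∈ negJ R (T.J k)) (g := g)
  rw [show {r | r ∈ negJ R (T.J k) ∧ R.InJ J r} = negJ R (T.J k) from Set.ext fun r => and_iff_left_of_imp fun h => inJ_le T A J hJ k h.2] at this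
  rw [show negJ (R.sub J) ((symS T A J hJ).J k) = {r | r.1 ∈ negJ R (T.J k)} from Set.ext fun r => and_congr RootSys.sub_isPos.not (inJ_S T A J hJ k r)]
  exact this

theorem Y_S (k : A) {g : (C.sub J).grp} : g ∈ (twS A J hJ S).Y k ↔ (g : G) ∈ S.Y k := and_congr (negS A J hJ k) (fix_S A J hJ S)

include hJ in
theorem X_le (k : A) : S.X k ≤ (C.sub J).grp := by
  rw [ChevSys.sub_toPreSys, PreSys.sub_grp]
  exact inf_le_left.trans (C.XS_mono fun r h => inJ_le T A J hJ k h.2)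

theorem card_X_S (k : A) : Nat.card ((twS A J hJ S).X k) = Nat.card (S.X k) := by
  rw [← Nat.card_congr (subgroupOfEquivOfLe (X_le A J hJ S k)).toEquiv]
  exact congrArg (fun H : Subgroup (C.sub J).grp => Nat.card H) (Subgroup.ext fun _ => X_S A J hJ S k)

variable {S} {K : Subgroup G} (hK : S.IsTw K)
include hK

theorem isTw_S : (twS A J hJ S).IsTw (twS A J hJ S).Fix where
  faithful := hK.faithful.sub.resTo _
  le_fix := le_rfl
  le_grp := ((C.sub J).resTo_grp le_rfl le_rfl).ge.trans' le_top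
  pos _ := inf_le_right
  neg k := by
    obtain ⟨v, h1, h2, h3⟩ := hK.neg k
    have h4 : v ∈ (C.sub J).grp := by
      rw [ChevSys.sub_toPreSys, PreSys.sub_grp]
      exact C.XS_mono (fun r h => inJ_le T A J hJ k h.2) h3
    exact ⟨⟨v, h4⟩, (fix_S A J hJ S).2 (hK.le_fix h1), fun e => h2 (congrArg Subtype.val e), (negS A J hJ k).2 h3⟩

theorem U_S {g : (C.sub J).grp} : g ∈ (sysS C J).U ↔ (g : G) ∈ C.U := by
  rw [PreSys.U, show {r | (R.sub J).IsPos r} = {r : {r // R.InJ J r} | R.IsPos r} from Set.ext fun _ => RootSys.sub_isPos, XS_S J R.IsPos]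
  refine ⟨fun h => C.XS_mono (fun _ h => h.1) h, fun h => ?_⟩
  have h1 := (C.toPreSys.sub_grp J).le g.2
  exact hK.faithful.mem_XS_of_U (fun _ h => h.1) h (hK.faithful.mem_of_B_LJ (C.U_le_B h) (mem_sup_right h1))

theorem V_S {g : (C.sub J).grp} : g ∈ (sysS C J).V ↔ (g : G) ∈ C.V := by
  rw [PreSys.V, show {r | ¬ (R.sub J).IsPos r} = {r : {r // R.InJ J r} | ¬ R.IsPos r} from Set.ext fun _ => RootSys.sub_isPos.not, XS_S J fun r => ¬ R.IsPos r]
  refine ⟨fun h => C.XS_mono (fun _ h => h.1) h, fun h => ?_⟩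
  have h1 := (C.toPreSys.sub_grp J).le g.2
  exact mem_negJ_of_V_P hK.faithful h (C.XS_inJ_le_P J h1)

/-- From the proof of `stdA_eq_one`. -/
theorem stdA_fixY (htop : C.grp = ⊤) [Finite F] [Fintype κ] [Nonempty κ] (hc : R.Conn) (hr : Rigid S) {θ : MulAut K} (h : θ ∈ stdA C K) {k : κ}
    (hx : ∀ x : K, (x : G) ∈ S.X k → θ x = x) {y : K} (hy : (y : G) ∈ S.Y k) : θ y = y := by
  by_cases e : y = 1
  · simp [e]
  obtain ⟨-, u, hu, n, hn, h1, v, hv, e'⟩ := hK.of_cell y⁻¹.2 (cell_δ htop hK.faithful _)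
  have h2 := congrArg Subtype.val (twTits_δ_neg hK htop (y := y⁻¹) (inv_mem hy.1) (inv_ne_one.2 e))
  rw [coe_twTits_δ] at h2
  rw [h2] at h1 hv
  replace e' : y⁻¹ = ⟨u, hu.2⟩ * ⟨n, hn⟩ * ⟨v, hv.2⟩ := Subtype.ext e'
  have h3 := hx ⟨v, hv.2⟩ ⟨(Uw_wJ _).le hv.1, hK.le_fix hv.2⟩
  have h4 : ((θ y⁻¹ * y : K) : G) ∈ C.B := by
    have h5 := C.conj_mem_H h1.mem_N (stdA_n hK htop hc hr h (n := ⟨n, hn⟩) h1)
    have h6 := (h.1 ⟨u, hu.2⟩).2 hu.1
    rw [← inv_inv y, e', inv_inv, map_mul, map_mul, h3]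
    simpa [mul_assoc] using mul_mem (mul_mem (C.U_le_B h6) (C.H_le_B h5)) (inv_mem (C.U_le_B hu.1))
  have h5 := hK.faithful.eq_one_of_B_V h4 (mul_mem ((h.2 y⁻¹).2 (inv_mem (XS_negJ_le_V _ hy.1))) (XS_negJ_le_V _ hy.1))
  simpa [inv_mul_eq_one] using h5

/-- The correcting element can be taken in `U`. -/
theorem exists_stdU (htop : C.grp = ⊤) [Finite F] (θ : MulAut K) (h : ∀ x : K, (x : G) ∈ C.U → (θ x : G) ∈ C.U) :
    ∃ u : K, (u : G) ∈ C.U ∧ MulAut.conj u * θ ∈ stdA C K := by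
  have := hK.faithful.finite htop
  obtain ⟨g, hg⟩ := exists_stdA hK htop θ
  have h1 : (g : G) ∈ C.B := mem_B_of_conj hK htop fun y hy => by
    obtain ⟨x, hx, rfl⟩ := (eq_of_le_of_card_ge (H := (C.U.subgroupOf K).map θ.toMonoidHom) (K := C.U.subgroupOf K)
      (map_le_iff_le_comap.2 h) (card_map_of_injective θ.injective).ge).ge hy
    exact C.U_le_B ((hg.1 x).2 hx)
  obtain ⟨u, hu, k, hk, e⟩ := hK.mem_B_iff.1 ⟨h1, g.2⟩
  have n := fun S => mem_normalizer_iff.1 (inv_mem (C.H_le_normalizer S hk.1))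
  have h2 : MulAut.conj (⟨k, hk.2⟩⁻¹ : K) ∈ stdA C K := ⟨fun x => (n _ x).symm, fun x => (n _ x).symm⟩
  refine ⟨⟨k, hk.2⟩⁻¹ * g, ?_, by simpa only [map_mul, mul_assoc] using mul_mem h2 hg⟩
  simpa [e, mul_assoc, PreSys.U] using (n _ u).1 hu.1

variable {L : Subgroup G} (hL : L = (C.sub J).grp ⊓ S.Fix) {θ : MulAut L}

omit hK in
/-- The fixed group inside `G`. -/
def eS : L ≃* (twS A J hJ S).Fix where
  toFun y := ⟨⟨y.1, (hL.le y.2).1⟩, (fix_S A J hJ S).2 (hL.le y.2).2⟩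
  invFun x := ⟨x.1.1, hL.ge ⟨x.1.2, (fix_S A J hJ S).1 x.2⟩⟩
  left_inv _ := rfl
  right_inv _ := rfl
  map_mul' _ _ := rfl

theorem std_S : MulAut.congr (eS A J hJ hL) θ ∈ stdA (sysS C J) _ ↔ θ ∈ stdA C L :=
  ⟨fun h => ⟨fun g => ((U_S J hK).symm.trans (h.1 (eS A J hJ hL g))).trans (U_S J hK), fun g => ((V_S J hK).symm.trans (h.2 (eS A J hJ hL g))).trans (V_S J hK)⟩,
    fun h => ⟨fun g => ((U_S J hK).trans (h.1 ((eS A J hJ hL).symm g))).trans (U_S J hK).symm, fun g => ((V_S J hK).trans (h.2 ((eS A J hJ hL).symm g))).trans (V_S J hK).symm⟩⟩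

variable [Finite F]
include hJ hL

theorem exU_S (h : ∀ x : L, (x : G) ∈ C.U → (θ x : G) ∈ C.U) : ∃ u : L, (u : G) ∈ C.U ∧ MulAut.conj u * θ ∈ stdA C L := by
  obtain ⟨u, a, b⟩ := exists_stdU (isTw_S A J hJ hK) ((C.sub J).resTo_grp le_rfl le_rfl) (MulAut.congr (eS A J hJ hL) θ)
    fun x hx => (U_S J hK).2 (h ((eS A J hJ hL).symm x) ((U_S J hK).1 hx))
  refine ⟨(eS A J hJ hL).symm u, (U_S J hK).1 a, (std_S A J hJ hK hL).1 ?_⟩
  rwa [map_mul, show MulAut.congr (eS A J hJ hL) (MulAut.conj ((eS A J hJ hL).symm u)) = MulAut.conj u from rfl]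

variable [Fintype A] [Nonempty A] (hc : (R.sub J).Conn) (hr : Rigid (twS A J hJ S)) (h : θ ∈ stdA C L) (k : A)
include hc hr h

theorem X_std {x : L} (hx : (x : G) ∈ S.X k) : (θ x : G) ∈ S.X k :=
  (X_S A J hJ S k).1 (stdA_X (isTw_S A J hJ hK) ((C.sub J).resTo_grp le_rfl le_rfl) hc hr ((std_S A J hJ hK hL).2 h) (x := eS A J hJ hL x) ((X_S A J hJ S k).2 hx))

theorem Y_std (hx : ∀ x : L, (x : G) ∈ S.X k → θ x = x) {y : L} (hy : (y : G) ∈ S.Y k) : θ y = y :=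
  (eS A J hJ hL).injective (stdA_fixY (isTw_S A J hJ hK) ((C.sub J).resTo_grp le_rfl le_rfl) hc hr ((std_S A J hJ hK hL).2 h)
    (fun x a => congrArg (eS A J hJ hL) (hx ((eS A J hJ hL).symm x) ((X_S A J hJ S k).1 a))) (y := eS A J hJ hL y) ((Y_S A J hJ S k).2 hy))

end Cfsg.Lib.EX
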