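import Cfsg.Agent.Lib.EX.Ab

/-!
# S3327, split case I.  Port of `USt/SA` (the lemmas that only use `BM` are inherited).
-/

set_option autoImplicit false
set_option linter.unusedSectionVars false

namespace Cfsg.Lib.EX

open Subgroup G2S Cfsg.Lib.BG Cfsg.Lib.GW GSt.SLa
open GSt (N0 HH)
open USt (El BM St SD0 SD Ac conj_one_iff pg_prod N0_le)
open USt.SQ (ac_apply)
open USt.SP (ac_comp ac_comp')
open scoped commutatorElement Cfsg.Lib.Transfer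

variable {J U A G : Type*} [Group J] [Finite J] [Group U] [Finite U] [Group A] [Group G] [Finite G]
  {ψ μ ν : J →* G} {t g : G} {P T Γ : Subgroup G} {α β α' β' : MulAut J} {θ η θ' η' ι : A}

/-- The `2`-elements of `C(t) ⊓ C(L)` are `1` and `t`. -/
def K2 (ψ : J →* G) (t : G) : Prop := ∀ g n, g ^ 2 ^ n = 1 → g * t = t * g → (∀ x, g * ψ x = ψ x * g) → g = 1 ∨ g = t

theorem K2.conj (k : K2 ψ t) (g : G) : K2 ((MulAut.conj g).toMonoidHom.comp ψ) (g * t * g⁻¹) := fun x n h1 h2 h3 => by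
  rcases k (g⁻¹ * x * g⁻¹⁻¹) n (by rw [conj_pow, h1]; simp) (by simpa [mul_assoc] using cjc h2 g⁻¹)
    (fun y => by simpa [mul_assoc] using cjc (h3 y) g⁻¹) with e | e
  exacts [.inl (conj_eq_one_iff.1 e), .inr (by rw [← e]; group)]

/-- The kernel of the action on `J` has order `≤ 2`, the image is conjugate into `R`. -/
theorem card_two (s : St ψ t) (k : K2 ψ t) (m : SO J U A) (hP : IsPGroup 2 P) (h : P ≤ 𝐂[t]) :
    Nat.card P ≤ 2 * Nat.card A * Nat.card U := by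
  classical
  let a := (s.act m.toBM).comp (P.subgroupOf 𝐂[t]).subtype
  have c3 : Nat.card a.ker ≤ 2 := by
    refine (Nat.card_le_card_of_injective (fun x : a.ker => decide (x.1.1.1 = 1)) fun x y e => ?_).trans_eq (by simp)
    have k : ∀ x : a.ker, x.1.1.1 = 1 ∨ x.1.1.1 = t := fun x =>
      let ⟨n, hn⟩ := hP ⟨_, x.1.2⟩
      k _ n (congrArg Subtype.val hn) (mc.1 x.1.1.2) ((s.act_one m.toBM x.1.1.2).1 x.2)
    simp only [decide_eq_decide] at e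
    refine Subtype.ext (Subtype.ext (Subtype.ext ?_))
    rcases k x with p | p <;> rcases k y with q | q
    exacts [p.trans q.symm, p.trans (e.1 p).symm, (e.2 q).trans q.symm, p.trans q.symm]
  have c4 := (m.syl_R.card_le (hP.comap_subtype.map (s.act m.toBM)) le_top).trans m.card_R
  rw [← Nat.card_congr (subgroupOfEquivOfLe h).toEquiv, ← a.ker.card_mul_index, index_ker, MonoidHom.range_comp, range_subtype,
    mul_assoc]
  exact Nat.mul_le_mul c3 c4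

theorem SP.sq (s : SP ψ t μ ν) : SQ ψ t μ ν := ⟨s.toSP0.sq⟩

namespace SQ
variable (s : SQ ψ t μ ν)
include s

theorem symm : SQ ψ t ν μ := ⟨s.toSQ0.symm⟩

variable (m : SO J U A)

include m in
/-- `fix_el` in both factors gives a `2`-subgroup of `C(g t g⁻¹)` of order `≥ b²`, against `card_two`, `n1`. -/
theorem no_fuse (k2 : K2 ψ t) (g : G) : g * t * g⁻¹ ∉ N0 μ ν := fun ⟨α, β, h⟩ => by
  have s' := s.toSt.conj g
  obtain ⟨h1, h2⟩ := s.ac_sq m.toBM h s'.t2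
  obtain ⟨E₁, p1, c1, -, n1⟩ := m.fix_el h1
  obtain ⟨E₂, p2, c2, -, n2⟩ := m.fix_el h2
  have := card_two s' (k2.conj g) m ((pg_prod p1 p2).map s.pr) (by
    rintro _ ⟨x, hx, rfl⟩
    rw [mc, eq_comm, ← cjf, s.pr_apply, ac_apply h, c1 _ hx.1, c2 _ hx.2])
  rw [s.card_prod m.toBM p1 p2] at this
  exact absurd ((Nat.mul_le_mul n1 n2).trans this) (not_le.2 (sq (m.bb 0) ▸ m.n1))
/-- As `GSt.SP.sw`, with `St.range` and `can`; `γ⁻¹ z`, where `χ = ψ' ∘ γ`. -/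
theorem sp (k2 : K2 ψ t) (can : ∀ g, g * g = 1 → (∀ y, y * m.j m.z = m.j m.z * y → g * ψ y = ψ y * g) → g * t * g = t * ψ (m.j m.z) →
    g ∈ μ.range ⊔ ν.range) : SP ψ t μ ν := by
  refine ⟨s.toSt, s.toSD0, fun g h => ?_⟩
  have s' := s.toSt.conj g
  obtain ⟨α, β, h⟩ := (s.mem_HH.1 h).resolve_left (s.no_fuse m k2 g)
  have e := fun x => (s.swap h x).1
  generalize hr : g * t * g⁻¹ = r at s' e
  let χ : J →* G := s.pr.comp ((MonoidHom.id J).prod β.toMonoidHom)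
  have hχ : ∀ x, χ x = μ x * ν (β x) := fun _ => rfl
  obtain ⟨γ, hγ⟩ := s'.range m.toBM (χ := χ) (fun x e => (s.eq_one m.toBM e).1) fun x => by
    conv_rhs => rw [hχ, s.comm]
    simp only [hχ, ← e, mul_assoc, s'.it, ← mul_assoc r r, s'.t2, one_mul, mul_one]
  have d : ∀ x, ψ x = g⁻¹ * χ (γ⁻¹ x) * g := fun x => by simp [hγ, mul_assoc]
  have c : ∀ x y, x * y = y * x → g⁻¹ * μ (γ⁻¹ x) * g * ψ y = ψ y * (g⁻¹ * μ (γ⁻¹ x) * g) := fun x y e => by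
    rw [d y, hχ]
    simp only [mul_assoc, mul_inv_cancel_left, mul_right_inj, ← mul_assoc (ν _), ← s.comm]
    simp only [← mul_assoc, ← map_mul, e]
  have n : ((μ.range ⊔ ν.range).comap ((MulAut.conj g⁻¹).toMonoidHom.comp (μ.comp γ⁻¹.toMonoidHom))).Normal := ⟨fun x hx y => by
    have hy := s.mem_M.2 ⟨_, _, s.diag y⟩
    have := mul_mem (mul_mem hy hx) (inv_mem hy)
    rw [d y, hχ] at this
    change g⁻¹ * μ (γ⁻¹ (y * x * y⁻¹)) * g⁻¹⁻¹ ∈ μ.range ⊔ ν.range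
    convert this using 1
    change _ = _ * (g⁻¹ * μ (γ⁻¹ x) * g⁻¹⁻¹) * _
    simp only [map_mul, map_inv, _root_.mul_inv_rev, inv_inv, mul_assoc, mul_inv_cancel_left, ← mul_assoc (ν _) (μ _), ← s.comm]⟩
  have top := (m.qs _ n).resolve_right fun e' => m.jz (e' (by
    have := can (g⁻¹ * μ (γ⁻¹ (m.j m.z)) * g) (by
        simp only [mul_assoc, mul_inv_cancel_left, ← mul_assoc (μ _), ← map_mul, m.elZ _ m.zZ, map_one, one_mul, inv_mul_cancel])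
      (fun y e => c _ _ e.symm) (by
        rw [d, hχ, show t = g⁻¹ * r * g by rw [← hr]; group, s.comm, ← e]
        simp only [mul_assoc, mul_inv_cancel_left, s'.it, ← mul_assoc r r, s'.t2, one_mul])
    simpa using this))
  have h1 : ∀ x, g⁻¹ * μ x * g⁻¹⁻¹ ∈ μ.range ⊔ ν.range := fun x => by simpa using top.ge (mem_top (γ x))
  refine inv_mem_iff.1 (s.mem_of_M m.toBM h1 fun x => ?_)
  have := mul_mem (inv_mem (h1 (β⁻¹ x))) (s.mem_M.2 ⟨_, _, s.diag (γ (β⁻¹ x))⟩)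
  rw [d, hχ] at this
  simpa [mul_assoc] using this
/-- `S' ≅ U × U`. -/
def i : U × U →* G := s.pr.comp (m.j.prodMap m.j)
theorem i_apply (x : U × U) : s.i m x = μ (m.j x.1) * ν (m.j x.2) := rfl
theorem i_inj : Function.Injective (s.i m) := (injective_iff_map_eq_one _).2 fun x e =>
  Prod.ext ((map_eq_one_iff _ m.em.inj).1 (m.two_center (s.eq_one m.toBM e).1 (m.j_two _).choose_spec))
    ((map_eq_one_iff _ m.em.inj).1 (m.two_center (s.eq_one m.toBM e).2 (m.j_two _).choose_spec))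
theorem i_range : (s.i m).range = SS m μ ν := le_antisymm
  (by rintro _ ⟨x, rfl⟩; exact mul_mem_sup ⟨_, rfl⟩ ⟨_, rfl⟩)
  (sup_le (by rintro _ ⟨x, rfl⟩; exact ⟨(x, 1), by simp [i_apply]⟩) (by rintro _ ⟨x, rfl⟩; exact ⟨(1, x), by simp [i_apply]⟩))
theorem mem_SS : g ∈ SS m μ ν ↔ ∃ a b, g = μ (m.j a) * ν (m.j b) := by
  rw [← s.i_range]; exact ⟨fun ⟨x, e⟩ => ⟨_, _, e.symm⟩, fun ⟨x, y, e⟩ => ⟨(x, y), e.symm⟩⟩
theorem SS_M : SS m μ ν ≤ μ.range ⊔ ν.range := fun _ h => let ⟨_, _, e⟩ := (s.mem_SS m).1 h; s.mem_M.2 ⟨_, _, e⟩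
theorem syl_SS : Syl 2 (SS m μ ν) (μ.range ⊔ ν.range) := by
  have : Syl 2 (m.j.range.prod m.j.range) ⊤ := Syl.mk' le_top (pg_prod m.em.syl.pgroup m.em.syl.pgroup) (by
    have := m.em.syl.not_dvd'
    rw [relIndex_top_right] at this ⊢
    rw [index_prod, Nat.prime_two.dvd_mul]; tauto)
  have := this.map s.pr
  rwa [← MonoidHom.range_eq_map, s.pr_range, ← MonoidHom.range_prodMap, ← MonoidHom.range_comp,
    show (s.pr.comp _).range = _ from s.i_range m] at this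
theorem U12 : (μ.comp m.j).range ⊓ (ν.comp m.j).range = ⊥ := eq_bot_iff.2 fun _ ⟨⟨a, h⟩, ⟨c, h'⟩⟩ => by
  have := s.i_inj m (a₁ := (a, 1)) (a₂ := (1, c)) (by simpa [i_apply] using h.trans h'.symm)
  rw [mem_bot, ← h, show a = 1 from congrArg Prod.fst this, map_one]
theorem ty_Θ (h : Ty m μ ν g θ η) (h' : Ac μ ν g α β) : m.Θ α = θ ∧ m.Θ β = η := by
  obtain ⟨a, c, h⟩ := h
  obtain ⟨rfl, rfl⟩ := s.uniq m.toBM h h'
  exact ⟨m.Θ_spec _ _, m.Θ_spec _ _⟩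
theorem ty_uniq (h : Ty m μ ν g θ η) (h' : Ty m μ ν g θ' η') : θ = θ' ∧ η = η' :=
  let ⟨_, _, a⟩ := h; ⟨(m.Θ_spec _ _).symm.trans (s.ty_Θ m h' a).1, (m.Θ_spec _ _).symm.trans (s.ty_Θ m h' a).2⟩
omit s in
theorem ty_mul {g' : G} (h : Ty m μ ν g θ η) (h' : Ty m μ ν g' θ' η') : Ty m μ ν (g * g') (θ * θ') (η * η') :=
  let ⟨a, c, h⟩ := h; let ⟨a', c', h'⟩ := h'; ⟨_, _, m.R_mul a a' θ θ' ▸ m.R_mul c c' η η' ▸ h.mul h'⟩
/-- The projections of `P` to the two factors are fixed by the automorphisms induced by `g`. -/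
theorem fix_pr {a c : U} (h : Ac μ ν g (MulAut.conj (m.j a) * m.fl θ) (MulAut.conj (m.j c) * m.fl η)) {x : U × U}
    (hc : g * s.i m x = s.i m x * g) : a * m.fU θ x.1 * a⁻¹ = x.1 ∧ c * m.fU η x.2 * c⁻¹ = x.2 := by
  have := ac_apply h (m.j x.1) (m.j x.2)
  rw [← s.i_apply, hc, mul_inv_cancel_right, m.R_j, m.R_j] at this
  exact Prod.ext_iff.1 (s.i_inj m (a₁ := (_, _)) this.symm)

variable {m} (y : SY m μ ν t T Γ)
include y
theorem SS_le : SS m μ ν ≤ T := fun x hx => (y.mem x).2 ⟨x, hx, 1, one_mem _, (mul_one _).symm⟩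
theorem Γ_le : Γ ≤ T := fun x hx => (y.mem x).2 ⟨1, one_mem _, x, hx, (one_mul _).symm⟩
theorem exists_ty (h : g ∈ T) (h0 : g ∈ N0 μ ν) : ∃ θ η, Ty m μ ν g θ η := by
  obtain ⟨u, hu, σ, hσ, rfl⟩ := (y.mem g).1 h
  obtain ⟨θ, η, h' | h'⟩ := y.std σ hσ
  · obtain ⟨a, c, rfl⟩ := (s.mem_SS m).1 hu
    exact ⟨θ, η, a, c, (s.ac_μν _ _).mul h'⟩
  · exact absurd ((mul_mem_cancel_left ((mul_mem_cancel_left (s.M_le (s.SS_M m hu))).1 h0)).1 ⟨_, _, h'⟩) (s.t_not m.toBM)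
theorem ty_one (h : g ∈ T) : Ty m μ ν g 1 1 ↔ g ∈ SS m μ ν := by
  refine ⟨fun ⟨a, c, e⟩ => ?_, fun e => ?_⟩
  · have hu := (s.mem_SS m).2 ⟨a, c, rfl⟩
    obtain ⟨k, hk⟩ := y.syl.pgroup ⟨_, mul_mem (inv_mem (s.SS_le y hu)) h⟩
    exact inv_mul_eq_one.1 (s.cm_odd m.toBM (by simpa using (s.ac_μν (m.j a) (m.j c)).inv.mul e) (congrArg Subtype.val hk)) ▸ hu
  · obtain ⟨a, c, rfl⟩ := (s.mem_SS m).1 e
    exact ⟨a, c, by simpa using s.ac_μν _ _⟩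
theorem card_ty (hP : P ≤ T ⊓ N0 μ ν) {D : Subgroup (A × A)} (h : ∀ g ∈ P, ∀ θ η, Ty m μ ν g θ η → (θ, η) ∈ D) :
    Nat.card P ≤ Nat.card D * Nat.card ↥(P ⊓ SS m μ ν) := by
  have := m.fin
  choose θ η e using fun x : P => s.exists_ty y (hP x.2).1 (hP x.2).2
  refine GSt.fx_card P _ (fun x => (⟨_, h x x.2 _ _ (e x)⟩ : D)) fun a c k => ?_
  obtain ⟨θ', η', e'⟩ := s.exists_ty y (hP (mul_mem (inv_mem a.2) c.2)).1 (hP (mul_mem (inv_mem a.2) c.2)).2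
  have := ty_mul m (e a) e'
  obtain ⟨k1, k2⟩ := Prod.ext_iff.1 (congrArg Subtype.val k)
  obtain ⟨e1, e2⟩ := s.ty_uniq m (mul_inv_cancel_left a.1 c.1 ▸ this) (e c)
  rw [mul_eq_left.1 (e1.trans k1.symm), mul_eq_left.1 (e2.trans k2.symm)] at e'
  exact (s.ty_one y (hP (mul_mem (inv_mem a.2) c.2)).1).1 e'
/-- `card_ty`, `eq_of_inv`. -/
theorem card_four (hP : P ≤ T ⊓ N0 μ ν) (h : ∀ g ∈ P, ∀ θ η, Ty m μ ν g θ η → θ * θ = 1 ∧ η * η = 1) :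
    Nat.card P ≤ 4 * Nat.card ↥(P ⊓ SS m μ ν) := by
  have := m.fin
  let I : Subgroup A := ⟨⟨⟨{θ | θ * θ = 1}, fun {a c} ha hc => Inv.mul_self_mul_of_comm ha hc (m.comm _ _)⟩, one_mul _⟩,
    fun {a} ha => by rw [Set.mem_setOf_eq, ← _root_.mul_inv_rev, show a * a = 1 from ha, inv_one]⟩
  have c : Nat.card I ≤ 2 := GSt.card_Prop ▸ Nat.card_le_card_of_injective (fun θ : I => θ.1 = 1) fun a c e => Subtype.ext (by
    by_cases ha : a.1 = 1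
    · exact ha.trans (e.mp ha).symm
    · exact m.eq_of_inv a.2 c.2 ha (mt e.mpr ha))
  refine (s.card_ty y hP (D := I.prod I) h).trans (Nat.mul_le_mul_right _ ?_)
  rw [Nat.card_congr (prodEquiv _ _).toEquiv, Nat.card_prod]
  exact Nat.mul_le_mul c c
end SQ

namespace SP
variable (s : SP ψ t μ ν)
include s
theorem symm : SP ψ t ν μ := ⟨s.toSP0.symm⟩
theorem comp (δ : MulAut J) : SP (ψ.comp δ.toMonoidHom) t (μ.comp δ.toMonoidHom) (ν.comp δ.toMonoidHom) := ⟨s.toSP0.comp δ⟩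
/-- The elements acting as field automorphisms, and such swaps. -/
def Γ0 (m : SO J U A) : Subgroup G where
  carrier := {σ | ∃ θ η, Ac μ ν σ (m.fl θ) (m.fl η) ∨ Ac μ ν (σ * t) (m.fl θ) (m.fl η)}
  one_mem' := ⟨1, 1, .inl (by simpa using GSt.Ac.one)⟩
  mul_mem' := by
    rintro a c ⟨θ, η, h | h⟩ ⟨θ', η', h' | h'⟩
    · exact ⟨θ * θ', η * η', .inl (by simpa using h.mul h')⟩
    · exact ⟨θ * θ', η * η', .inr (by simpa [mul_assoc] using h.mul h')⟩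
    · exact ⟨θ * η', η * θ', .inr (by simpa [mul_assoc, s.sq.tt] using h.mul (s.sq.ac_t h'))⟩
    · exact ⟨θ * η', η * θ', .inl (by simpa [mul_assoc, s.sq.tt, s.t2] using h.mul (s.sq.ac_t h'))⟩
  inv_mem' := by
    rintro a ⟨θ, η, h | h⟩
    · exact ⟨θ⁻¹, η⁻¹, .inl (by simpa using h.inv)⟩
    · exact ⟨η⁻¹, θ⁻¹, .inr (by simpa [mul_assoc, s.sq.tt, s.it] using s.sq.ac_t h.inv)⟩
theorem sy_of (m : SO J U A) (hT : Syl 2 T ⊤) (ht : t ∈ T) (h : ∀ x ∈ T, ∀ α β, Ac μ ν x α β → α ∈ m.R) :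
    SY m μ ν t T (T ⊓ s.Γ0 m) := by
  have k : ∀ x ∈ T, x ∈ N0 μ ν → ∃ θ η, Ty m μ ν x θ η := fun x hx ⟨α, β, e⟩ => by
    obtain ⟨a, θ, rfl⟩ := h x hx _ _ e
    obtain ⟨c, η, rfl⟩ := h _ (mul_mem (mul_mem ht hx) ht) _ _ (s.sq.ac_t e)
    exact ⟨θ, η, a, c, e⟩
  have hH := s.two hT.pgroup ht
  have hS : SS m μ ν ≤ T := ((hT.inf le_top (hH.trans s.sq.HH_M)).eq_of_le' (s.sq.syl_SS m) fun x hx => by
    obtain ⟨θ, η, e⟩ := k x hx.1 (s.sq.M_le hx.2)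
    obtain ⟨u, v, e'⟩ := s.sq.mem_M.1 hx.2
    obtain ⟨e1, e2⟩ := s.sq.ty_Θ m e (e' ▸ s.sq.ac_μν u v)
    rw [m.Θ_conj] at e1 e2
    subst e1 e2
    obtain ⟨a, c, e⟩ := e
    obtain ⟨n, hn⟩ := hT.pgroup ⟨x, hx.1⟩
    obtain ⟨n', hn'⟩ := (s.sq.syl_SS m).pgroup ⟨_, (s.sq.mem_SS m).2 ⟨a, c, rfl⟩⟩
    exact (s.sq.mem_SS m).2 ⟨a, c, s.sq.eq_of_inner' m.toBM (by simpa using e) (congrArg Subtype.val hn)
      (congrArg Subtype.val hn')⟩).ge.trans inf_le_left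
  have k' : ∀ x ∈ T, x ∈ N0 μ ν → ∃ u ∈ SS m μ ν, u⁻¹ * x ∈ T ⊓ s.Γ0 m := fun x hx h0 => by
    obtain ⟨θ, η, a, c, e⟩ := k x hx h0
    have hu := (s.sq.mem_SS m).2 ⟨a, c, rfl⟩
    exact ⟨_, hu, T.mul_mem (T.inv_mem (hS hu)) hx, θ, η, .inl (by simpa using (s.sq.ac_μν (m.j a) (m.j c)).inv.mul e)⟩
  have tΓ : t ∈ T ⊓ s.Γ0 m := ⟨ht, 1, 1, .inr (by simpa [s.t2] using GSt.Ac.one)⟩
  refine ⟨hT, tΓ, fun x => ⟨fun hx => ?_, ?_⟩, fun _ h => h.2⟩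
  · rcases s.sq.mem_HH.1 (hH hx) with h0 | h0
    · exact let ⟨u, hu, e⟩ := k' x hx h0; ⟨u, hu, _, e, by simp⟩
    · exact let ⟨u, hu, e⟩ := k' _ (mul_mem hx ht) h0; ⟨u, hu, _, mul_mem e tΓ, by simp [mul_assoc, s.t2]⟩
  · rintro ⟨u, hu, σ, hσ, rfl⟩
    exact mul_mem (hS hu) hσ.1
/-- `T ∋ t` Sylow in `G`, `T ≤ HH` (`two`), `T₀ = T ⊓ N0` is Sylow in `N0`.  The first components of the actions of `T₀` form a
`2`-subgroup of `Aut J`; choose `δ` conjugating it into `R` (`syl_R`) and reparametrize.  The second component of `x` is the first of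
`t x t`.  `T₀ ⊓ μ J` is Sylow in `μ J` and consists of `μ l`, `l` a `2`-element with `conj l ∈ R`, so `l ∈ j U` (`two_eq`): `S' ≤ T`.
`Γ = {σ ∈ T | std}`; for `x ∈ T₀` with actions `conj (j a) * fl θ`, `conj (j b) * fl η`: `(μ (j a) ν (j b))⁻¹ x ∈ Γ`. -/
theorem exists_sy (m : SO J U A) : ∃ (δ : MulAut J) (T Γ : Subgroup G), SY m (μ.comp δ.toMonoidHom) (ν.comp δ.toMonoidHom) t T Γ := by
  obtain ⟨T, hT, ht⟩ := Syl.exists_ge (Inv.isPGroup_zpowers_of_mul_self s.t2) le_top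
  obtain ⟨ρ, hρ⟩ := s.sq.exists_ρ m.toBM
  obtain ⟨γ, -, e⟩ := m.syl_R.exists_conj_le (hT.pgroup.comap_subtype.map ((MonoidHom.fst _ _).comp ρ)) le_top
  refine ⟨γ⁻¹, T, _, (s.comp γ⁻¹).sy_of m hT (ht (mem_zpowers t)) fun x hx α β a => ?_⟩
  have a := ac_comp' _ a
  simpa [mul_assoc] using Transfer.conj_le_iff.1 e _ ⟨⟨x, _, _, a⟩, hx, congrArg Prod.fst (hρ a _)⟩
end SP

end Cfsg.Lib.EX
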